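import Groth.Prelude.Def_ArtFun
import Mathlib.Dynamics.Newton
import Mathlib.RingTheory.HopkinsLevitzki
import Mathlib.FieldTheory.Separable

/-!
Finiteness over `Λ` of Artinian local `Λ`-algebras, lifts of separable elements of the residue field,
fibre products in the category of Artinian local algebras.
-/

set_option autoImplicit false
universe u

namespace Groth.Agent.ArtFib

open CategoryTheory IsLocalRing Polynomial

variable {Λ : Type u} {k : Type u} [CommRing Λ] [Field k] [Algebra Λ k]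

lemma isNilpotent_of_res_eq_zero (A : ArtFun.Art Λ k) {a : A} (ha : A.res a = 0) : IsNilpotent a := by
  obtain ⟨n, hn⟩ := (isArtinianRing_iff_isNilpotent_maximalIdeal A).1 inferInstance
  have h := Ideal.pow_mem_pow ((A.mem_maximalIdeal_iff a).2 ha) n
  rw [hn] at h
  exact ⟨n, Ideal.mem_bot.1 h⟩

theorem module_finite [Module.Finite Λ k] (A : ArtFun.Art Λ k) : Module.Finite Λ A := by
  classical
  let m := maximalIdeal A
  obtain ⟨N, hN⟩ := (isArtinianRing_iff_isNilpotent_maximalIdeal A).1 inferInstance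
  obtain ⟨s, hs⟩ := (‹Module.Finite Λ k›).fg_top
  choose u hu using fun x : k => A.res_surjective x
  have key : ∀ i, ((m ^ (N - i)).restrictScalars Λ : Submodule Λ A).FG := by
    intro i
    induction i with
    | zero =>
      have : m ^ (N - 0) = ⊥ := hN
      rw [this, Submodule.restrictScalars_bot]
      exact Submodule.fg_bot
    | succ i ih =>
      rcases Nat.eq_zero_or_pos (N - i) with h | h
      · rwa [show N - (i + 1) = N - i by omega]
      obtain ⟨j, hj⟩ : ∃ j, N - i = j + 1 := ⟨N - i - 1, by omega⟩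
      rw [show N - (i + 1) = j by omega]
      rw [hj] at ih
      obtain ⟨t, ht⟩ := IsNoetherian.noetherian (m ^ j)
      let S : Submodule Λ A := Submodule.span Λ ↑((s ×ˢ t).image fun p => u p.1 * p.2)
      have heq : (m ^ j).restrictScalars Λ = S ⊔ (m ^ (j + 1)).restrictScalars Λ := by
        refine le_antisymm (fun x hx => ?_) (sup_le (Submodule.span_le.2 ?_) fun x hx => ?_)
        · have hx' : x ∈ Submodule.span A (t : Set A) := ht ▸ (show x ∈ m ^ j from hx)
          suffices hmul : ∀ (a : A), ∀ y ∈ (t : Set A), a * y ∈ S ⊔ (m ^ (j + 1)).restrictScalars Λ by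
            clear hx
            induction hx' using Submodule.span_induction with
            | mem y hy => simpa using hmul 1 y hy
            | zero => exact zero_mem _
            | add y z _ _ hy hz => exact add_mem hy hz
            | smul a y hy ih' =>
              clear ih'
              induction hy using Submodule.span_induction generalizing a with
              | mem y hy => exact hmul a y hy
              | zero => rw [smul_zero]; exact zero_mem _
              | add y z _ _ hy hz => rw [smul_add]; exact add_mem (hy a) (hz a)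
              | smul b y _ hy => rw [smul_smul]; exact hy (a * b)
          intro a y hy
          have hr : A.res a ∈ Submodule.span Λ (s : Set k) := hs ▸ Submodule.mem_top
          obtain ⟨c, -, hc⟩ := Submodule.mem_span_finset.1 hr
          have hm : a - ∑ z ∈ s, c z • u z ∈ m := by
            rw [ArtFun.Art.mem_maximalIdeal_iff, map_sub, map_sum]
            simp only [map_smul, hu, hc, sub_self]
          have : a * y = (∑ z ∈ s, c z • (u z * y)) + (a - ∑ z ∈ s, c z • u z) * y := by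
            rw [sub_mul, Finset.sum_mul]; simp only [smul_mul_assoc]; abel
          rw [this]
          refine Submodule.add_mem_sup (Submodule.sum_mem _ fun z hz => Submodule.smul_mem _ _
            (Submodule.subset_span (Finset.mem_image.2 ⟨(z, y), Finset.mem_product.2 ⟨hz, hy⟩, rfl⟩))) ?_
          rw [Submodule.restrictScalars_mem, pow_succ']
          exact Ideal.mul_mem_mul hm (ht ▸ Submodule.subset_span hy)
        · intro x hx
          obtain ⟨p, hp, rfl⟩ := Finset.mem_image.1 hx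
          exact (m ^ j).mul_mem_left _ (ht ▸ Submodule.subset_span (Finset.mem_product.1 hp).2)
        · exact Ideal.pow_le_pow_right (Nat.le_succ j) hx
      rw [heq]
      exact (Submodule.fg_span (Finset.finite_toSet _)).sup ih
  have := key N
  rw [Nat.sub_self, pow_zero, Ideal.one_eq_top, Submodule.restrictScalars_top] at this
  exact ⟨this⟩

/-- a separable element of the residue field lifts uniquely to a root of a polynomial over `Λ` -/
lemma existsUnique_lift (A : ArtFun.Art Λ k) (α : k) (P : Λ[X]) (h₀ : aeval α P = 0)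
    (h₁ : aeval α (derivative P) ≠ 0) : ∃! r : A, A.res r = α ∧ aeval r P = 0 := by
  obtain ⟨x, rfl⟩ := A.res_surjective α
  have hn : IsNilpotent (aeval x P) := isNilpotent_of_res_eq_zero A (by rwa [← aeval_algHom_apply])
  have hu : IsUnit (aeval x (derivative P)) := by
    by_contra h
    exact h₁ (by rw [aeval_algHom_apply]; exact (A.mem_maximalIdeal_iff _).1 ((mem_maximalIdeal _).2 h))
  refine (existsUnique_congr fun r => and_congr_left' ?_).1
    (existsUnique_nilpotent_sub_and_aeval_eq_zero hn hu)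
  refine ⟨fun h => (sub_eq_zero.1 ((map_sub _ _ _).symm.trans (IsNilpotent.eq_zero (h.map A.res)))).symm,
    fun h => isNilpotent_of_res_eq_zero A (by rw [map_sub, h, sub_self])⟩

variable [IsNoetherianRing Λ] [Module.Finite Λ k]

theorem exists_isFibreProd_of {A A₁ A₂ : ArtFun.Art Λ k}
    (f₁ : A₁ ⟶ A) (f₂ : A₂ ⟶ A) (h : ∀ α : k, ∃ r₁ r₂, A₁.res r₁ = α ∧ f₁ r₁ = f₂ r₂) :
    ∃ (B : ArtFun.Art Λ k) (p₁ : B ⟶ A₁) (p₂ : B ⟶ A₂), ArtFun.Art.IsFibreProd p₁ p₂ f₁ f₂ := by
  let S := AlgHom.equalizer (f₁.toAlgHom.comp (AlgHom.fst Λ A₁ A₂)) (f₂.toAlgHom.comp (AlgHom.snd Λ A₁ A₂))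
  let res : S →ₐ[Λ] k := A₁.res.comp ((AlgHom.fst Λ A₁ A₂).comp S.val)
  have hmem : ∀ x : S, f₁ (x : A₁ × A₂).1 = f₂ (x : A₁ × A₂).2 := fun x => x.2
  have hres₂ : ∀ x : S, A₂.res (x : A₁ × A₂).2 = res x := fun x => by
    rw [← ArtFun.Art.res_app f₂, ← hmem, ArtFun.Art.res_app f₁]; rfl
  have hsurj : Function.Surjective res := by
    intro α
    obtain ⟨r₁, r₂, hr₁, he⟩ := h α
    exact ⟨⟨(r₁, r₂), he⟩, hr₁⟩
  have hnil : ∀ x : S, res x = 0 → IsNilpotent x := fun x hx => by
    obtain ⟨a, ha⟩ := isNilpotent_of_res_eq_zero A₁ (show A₁.res (x : A₁ × A₂).1 = 0 from hx)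
    obtain ⟨b, hb⟩ := isNilpotent_of_res_eq_zero A₂ ((hres₂ x).trans hx)
    exact ⟨a + b, Subtype.ext (Prod.ext (pow_eq_zero_of_le (Nat.le_add_right a b) ha)
      (pow_eq_zero_of_le (Nat.le_add_left b a) hb))⟩
  have : Nontrivial S := res.toRingHom.domain_nontrivial
  have hloc : IsLocalRing S := by
    refine IsLocalRing.of_isUnit_or_isUnit_one_sub_self fun x => ?_
    by_cases hx : res x = 0
    · exact Or.inr (hnil x hx).isUnit_one_sub
    · obtain ⟨y, hy⟩ := hsurj (res x)⁻¹
      have h := (hnil (1 - x * y) (by rw [map_sub, map_mul, map_one, hy, mul_inv_cancel₀ hx, sub_self])).isUnit_one_sub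
      rw [sub_sub_cancel] at h
      exact Or.inl (isUnit_of_mul_isUnit_left h)
  have : Module.Finite Λ A₁ := module_finite A₁
  have : Module.Finite Λ A₂ := module_finite A₂
  have : Module.Finite Λ S := Module.Finite.of_injective S.val.toLinearMap Subtype.val_injective
  have hnoeth : IsNoetherianRing S := Algebra.FiniteType.isNoetherianRing Λ S
  have hart : IsArtinianRing S := by
    rw [isArtinianRing_iff_isNilpotent_maximalIdeal, Ideal.FG.isNilpotent_iff_le_nilradical (IsNoetherian.noetherian _)]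
    intro x hx
    refine mem_nilradical.2 (hnil x ?_)
    by_contra h
    obtain ⟨y, hy⟩ := hsurj (res x)⁻¹
    have hu := (hnil (1 - x * y) (by rw [map_sub, map_mul, map_one, hy, mul_inv_cancel₀ h, sub_self])).isUnit_one_sub
    rw [sub_sub_cancel] at hu
    exact (mem_maximalIdeal _).1 hx (isUnit_of_mul_isUnit_left hu)
  let B : ArtFun.Art Λ k := ArtFun.Art.of S res hsurj
  refine ⟨B, ArtFun.Art.homMk ((AlgHom.fst Λ A₁ A₂).comp S.val) rfl,
    ArtFun.Art.homMk ((AlgHom.snd Λ A₁ A₂).comp S.val) (AlgHom.ext hres₂),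
    ⟨ArtFun.Art.hom_ext (AlgHom.ext hmem), fun b₁ b₂ h₁ h₂ => Subtype.ext (Prod.ext h₁ h₂),
      fun a₁ a₂ h => ⟨⟨(a₁, a₂), h⟩, rfl, rfl⟩⟩⟩

theorem exists_isFibreProd [Algebra.IsSeparable (↥(algebraMap Λ k).range) k] {A A₁ A₂ : ArtFun.Art Λ k}
    (f₁ : A₁ ⟶ A) (f₂ : A₂ ⟶ A) :
    ∃ (B : ArtFun.Art Λ k) (p₁ : B ⟶ A₁) (p₂ : B ⟶ A₂), ArtFun.Art.IsFibreProd p₁ p₂ f₁ f₂ := by
  refine exists_isFibreProd_of f₁ f₂ ?_
  let F := (algebraMap Λ k).range
  let : Algebra Λ F := (algebraMap Λ k).rangeRestrict.toAlgebra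
  have : IsScalarTower Λ F k := IsScalarTower.of_algebraMap_eq fun _ => rfl
  have hfin : Module.Finite F k := Module.Finite.of_restrictScalars_finite Λ F k
  have hF : IsField F :=
    isField_of_isIntegral_of_isField (S := k) (FaithfulSMul.algebraMap_injective F k) (Field.toIsField k)
  let : Field F := hF.toField
  intro α
  have hsep : (minpoly F α).Separable := Algebra.IsSeparable.isSeparable F α
  obtain ⟨P, hP⟩ := map_surjective (algebraMap Λ F) (fun ⟨_, l, hl⟩ => ⟨l, Subtype.ext hl⟩) (minpoly F α)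
  have hae : ∀ Q : Λ[X], aeval α Q = aeval α (Q.map (algebraMap Λ F)) := fun Q => (aeval_map_algebraMap F α Q).symm
  have h0 : aeval α P = 0 := by rw [hae, hP, minpoly.aeval]
  have h1 : aeval α (derivative P) ≠ 0 := by
    rw [hae, ← derivative_map, hP]
    exact hsep.aeval_derivative_ne_zero (minpoly.aeval F α)
  obtain ⟨r₁, ⟨hr₁, hr₁'⟩, -⟩ := existsUnique_lift A₁ α P h0 h1
  obtain ⟨r₂, ⟨hr₂, hr₂'⟩, -⟩ := existsUnique_lift A₂ α P h0 h1
  have he : f₁ r₁ = f₂ r₂ := (existsUnique_lift A α P h0 h1).unique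
    ⟨(ArtFun.Art.res_app f₁ r₁).trans hr₁, (aeval_algHom_apply f₁.toAlgHom r₁ P).trans (by rw [hr₁', map_zero])⟩
    ⟨(ArtFun.Art.res_app f₂ r₂).trans hr₂, (aeval_algHom_apply f₂.toAlgHom r₂ P).trans (by rw [hr₂', map_zero])⟩
  exact ⟨r₁, r₂, hr₁, he⟩

theorem exists_isFibreProd_of_surjective {A A₁ A₂ : ArtFun.Art Λ k}
    (f₁ : A₁ ⟶ A) (f₂ : A₂ ⟶ A) (hf₂ : Function.Surjective f₂) :
    ∃ (B : ArtFun.Art Λ k) (p₁ : B ⟶ A₁) (p₂ : B ⟶ A₂), ArtFun.Art.IsFibreProd p₁ p₂ f₁ f₂ := by
  refine exists_isFibreProd_of f₁ f₂ fun α => ?_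
  obtain ⟨r₁, hr₁⟩ := A₁.res_surjective α
  obtain ⟨r₂, hr₂⟩ := hf₂ (f₁ r₁)
  exact ⟨r₁, r₂, hr₁, hr₂.symm⟩

end Groth.Agent.ArtFib
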